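import Mathlib.AlgebraicGeometry.Morphisms.Integral
import Mathlib.AlgebraicGeometry.Morphisms.Separated
import Groth.Agent.Lib.VarDim.Normal

/-!
An integral morphism with a rational section over a normal integral scheme has a section.
-/

universe u

open CategoryTheory CategoryTheory.Limits AlgebraicGeometry TopologicalSpace

namespace Groth.Agent.NormSect

variable {X X' : Scheme.{u}} [IsIntegral X]

lemma gen_mem (W : X.Opens) (hW : (W : Set X).Nonempty) : genericPoint X ∈ W :=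
  ((genericPoint_spec X).mem_open_set_iff W.2).mpr (by simpa using hW)

lemma isDominant_fromSpecStalkOfMem (W : X.Opens) (hW : genericPoint X ∈ W) :
    IsDominant (W.fromSpecStalkOfMem (genericPoint X) hW) := by
  constructor
  have hgen : Dense ({genericPoint X} : Set X) := by
    rw [dense_iff_closure_eq]; exact genericPoint_spec X
  refine (hgen.preimage W.ι.isOpenEmbedding.isOpenMap).mono ?_
  intro w hw
  refine ⟨IsLocalRing.closedPoint _, W.ι.isOpenEmbedding.injective ?_⟩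
  rw [← Scheme.Hom.comp_apply, Scheme.Opens.fromSpecStalkOfMem_ι, Scheme.fromSpecStalk_closedPoint]
  exact hw.symm

/-- Morphisms from an open subscheme are determined at the generic point. -/
lemma eq_of_generic (g : X' ⟶ X) [IsSeparated g] (W : X.Opens) (hW : genericPoint X ∈ W)
    (a b : (W : Scheme.{u}) ⟶ X') (ha : a ≫ g = b ≫ g)
    (h : W.fromSpecStalkOfMem _ hW ≫ a = W.fromSpecStalkOfMem _ hW ≫ b) : a = b := by
  haveI : IsReduced (W : Scheme.{u}) := isReduced_of_isOpenImmersion W.ι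
  haveI := isDominant_fromSpecStalkOfMem W hW
  exact ext_of_isDominant_of_isSeparated g ha _ h

lemma exists_local_section (hX : ∀ x : X, IsIntegrallyClosed (X.presheaf.stalk x))
    (g : X' ⟶ X) [IsIntegralHom g] (t : Spec (X.presheaf.stalk (genericPoint X)) ⟶ X')
    (ht : t ≫ g = X.fromSpecStalk (genericPoint X)) (W : X.Opens) (hWa : IsAffineOpen W)
    (hW : genericPoint X ∈ W) :
    ∃ m : (W : Scheme.{u}) ⟶ X', m ≫ g = W.ι ∧ W.fromSpecStalkOfMem _ hW ≫ m = t := by
  haveI : Nonempty W := ⟨⟨_, hW⟩⟩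
  have hU : IsAffineOpen (g ⁻¹ᵁ W) := hWa.preimage g
  have hle : (⊤ : (Spec (X.presheaf.stalk (genericPoint X))).Opens) ≤ t ⁻¹ᵁ g ⁻¹ᵁ W := by
    intro y _
    show g (t y) ∈ W
    rw [← Scheme.Hom.comp_apply, ht]
    have hy : X.fromSpecStalk (genericPoint X) y ∈ {z | z ⤳ genericPoint X} := by
      rw [← Scheme.range_fromSpecStalk]; exact ⟨y, rfl⟩
    exact (show _ ⤳ genericPoint X from hy).mem_open W.2 hW
  let ψ : Γ(X', g ⁻¹ᵁ W) ⟶ X.functionField :=
    t.appLE (g ⁻¹ᵁ W) ⊤ hle ≫ (Scheme.ΓSpecIso _).hom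
  have hψ : g.app W ≫ ψ = X.germToFunctionField W := by
    simp only [ψ, Scheme.Hom.app_eq_appLE, Scheme.Hom.appLE_comp_appLE_assoc]
    have : (t ≫ g).appLE W ⊤ hle = (X.fromSpecStalk (genericPoint X)).appLE W ⊤ (by rw [← ht]; exact hle) := by
      congr 1
    rw [this, Scheme.Hom.appLE, Scheme.fromSpecStalk_app hW]
    simp only [Category.assoc, ← Functor.map_comp_assoc]
    erw [CategoryTheory.Functor.map_id, Category.id_comp, Iso.inv_hom_id, Category.comp_id]
  have hmem : ∀ b, ψ.hom b ∈ (X.germToFunctionField W).hom.range := fun b => by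
    obtain ⟨p, hp, hp0⟩ := g.isIntegral_app W hWa b
    obtain ⟨a, ha⟩ := Groth.Agent.VarDim.exists_section_of_integral hX W (ψ.hom b)
      ⟨p, hp, by rw [← hψ, CommRingCat.hom_comp, ← Polynomial.hom_eval₂, hp0, map_zero]⟩
    exact ⟨a, ha⟩
  let e := RingEquiv.ofBijective (X.germToFunctionField W).hom.rangeRestrict
    ⟨fun a b h => X.germToFunctionField_injective W (congrArg Subtype.val h),
      RingHom.rangeRestrict_surjective _⟩
  let φ : Γ(X', g ⁻¹ᵁ W) ⟶ Γ(X, W) :=
    CommRingCat.ofHom (e.symm.toRingHom.comp (ψ.hom.codRestrict _ hmem))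
  have hφ : φ ≫ X.germToFunctionField W = ψ := by
    ext b
    exact congrArg Subtype.val (e.apply_symm_apply (ψ.hom.codRestrict _ hmem b))
  have hgφ : g.app W ≫ φ = 𝟙 _ := by
    ext a
    apply X.germToFunctionField_injective W
    rw [← CommRingCat.comp_apply, Category.assoc, hφ, hψ]
    rfl
  refine ⟨W.toSpecΓ ≫ Spec.map φ ≫ hU.fromSpec, ?_, ?_⟩
  · rw [Category.assoc, Category.assoc, ← IsAffineOpen.SpecMap_appLE_fromSpec g hWa hU le_rfl,
      ← Spec.map_comp_assoc, ← Scheme.Hom.app_eq_appLE, hgφ, Spec.map_id, Category.id_comp,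
      IsAffineOpen.toSpecΓ_fromSpec]
  · rw [← Category.assoc, Scheme.Opens.fromSpecStalkOfMem_toSpecΓ, ← Spec.map_comp_assoc]
    have : φ ≫ X.presheaf.germ W (genericPoint X) hW = ψ := hφ
    rw [this]
    simp only [ψ, Spec.map_comp, Category.assoc]
    rw [IsAffineOpen.SpecMap_appLE_fromSpec t hU (isAffineOpen_top _) hle, IsAffineOpen.fromSpec_top]
    simp [Scheme.isoSpec_Spec_inv]

theorem exists_section (hX : ∀ x : X, IsIntegrallyClosed (X.presheaf.stalk x))
    (g : X' ⟶ X) [IsIntegralHom g] (U : X.Opens) (hU : Dense (U : Set X))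
    (s : (U : Scheme.{u}) ⟶ X') (hs : s ≫ g = U.ι) :
    ∃ s' : X ⟶ X', s' ≫ g = 𝟙 X ∧ U.ι ≫ s' = s := by
  have hUη : genericPoint X ∈ U := gen_mem U hU.nonempty
  let t := U.fromSpecStalkOfMem _ hUη ≫ s
  have ht : t ≫ g = X.fromSpecStalk (genericPoint X) := by
    simp only [t, Category.assoc, hs, Scheme.Opens.fromSpecStalkOfMem_ι]
  let ι := {W : X.affineOpens // genericPoint X ∈ W.1}
  choose m hm hmt using fun W : ι => exists_local_section hX g t ht W.1.1 W.1.2 W.2
  let O : ι → X.Opens := fun W => W.1.1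
  have hO : iSup O = ⊤ := by
    refine top_le_iff.1 fun x _ => ?_
    obtain ⟨W, hW, hxW, -⟩ := exists_isAffineOpen_mem_and_subset (show x ∈ (⊤ : X.Opens) from trivial)
    exact Opens.mem_iSup.mpr ⟨⟨⟨W, hW⟩, gen_mem W ⟨x, hxW⟩⟩, hxW⟩
  have key : ∀ a b, X.homOfLE (inf_le_left : O a ⊓ O b ≤ O a) ≫ m a =
      X.homOfLE (inf_le_right : O a ⊓ O b ≤ O b) ≫ m b := by
    intro a b
    have hab : genericPoint X ∈ O a ⊓ O b := ⟨a.2, b.2⟩
    refine eq_of_generic g _ hab _ _ (by simp only [Category.assoc, O, hm, Scheme.homOfLE_ι]) ?_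
    have e1 : (O a ⊓ O b).fromSpecStalkOfMem _ hab ≫ X.homOfLE inf_le_left = (O a).fromSpecStalkOfMem _ a.2 := by
      rw [← cancel_mono (O a).ι]; simp
    have e2 : (O a ⊓ O b).fromSpecStalkOfMem _ hab ≫ X.homOfLE inf_le_right = (O b).fromSpecStalkOfMem _ b.2 := by
      rw [← cancel_mono (O b).ι]; simp
    rw [reassoc_of% e1, reassoc_of% e2]
    exact (hmt a).trans (hmt b).symm
  let C := X.openCoverOfIsOpenCover O hO
  let s' : X ⟶ X' := C.glueMorphisms m fun a b => by
    refine (cancel_epi (isPullback_opens_inf (O a) (O b)).isoPullback.hom).mp ?_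
    change _ ≫ pullback.fst (O a).ι (O b).ι ≫ _ = _ ≫ pullback.snd (O a).ι (O b).ι ≫ _
    rw [IsPullback.isoPullback_hom_fst_assoc, IsPullback.isoPullback_hom_snd_assoc]
    exact key a b
  have hs' : s' ≫ g = 𝟙 X := Scheme.Cover.hom_ext C _ _ fun a => by
    rw [Scheme.Cover.ι_glueMorphisms_assoc, Category.comp_id]; exact hm a
  refine ⟨s', hs', eq_of_generic g U hUη _ _ (by rw [Category.assoc, hs', Category.comp_id, hs]) ?_⟩
  obtain ⟨W, hW, hxW, -⟩ := exists_isAffineOpen_mem_and_subset (show genericPoint X ∈ (⊤ : X.Opens) from trivial)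
  have : U.fromSpecStalkOfMem _ hUη ≫ U.ι = W.fromSpecStalkOfMem _ hxW ≫ W.ι := by simp
  rw [reassoc_of% this]
  exact (congrArg (W.fromSpecStalkOfMem _ hxW ≫ ·)
    (Scheme.Cover.ι_glueMorphisms C m _ ⟨⟨W, hW⟩, hxW⟩)).trans (hmt ⟨⟨W, hW⟩, hxW⟩)

end Groth.Agent.NormSect
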